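import Groth.Agent.CohExch.FlatBC0
import Groth.Agent.CohExch.Local0
import Groth.Agent.Coherent.PullUnit
import Groth.Agent.Coherent.TensorBasis
import Groth.Agent.PicLib.BasisOn
import Groth.Agent.AmpleLib.Tensor
import Groth.Agent.CAlgH3.LocFreeFactor
import Groth.Agent.FlatMor12.FreeCharts
import Mathlib.RingTheory.TensorProduct.Free
import Mathlib.AlgebraicGeometry.Morphisms.Flat

/-!
# Global sections of an external tensor product over a field are sums of products
-/

set_option autoImplicit false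
set_option linter.style.haveILetI false
set_option linter.unusedSectionVars false
set_option backward.isDefEq.respectTransparency.types false
set_option maxHeartbeats 1000000

universe u

open CategoryTheory CategoryTheory.Limits AlgebraicGeometry Opposite TopologicalSpace
open Groth.Agent.Coherent Groth.Agent.PicLib Groth.Agent.AmpleLib

namespace Groth.Agent.MulSpan27

variable {k : Type u} [Field k] {W X Y : Scheme.{u}} {p : W ⟶ X} {q : W ⟶ Y}
  {gX : X ⟶ Spec (CommRingCat.of k)} {gY : Y ⟶ Spec (CommRingCat.of k)}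
  (h : IsPullback q p gY gX) (F : Y.Modules) [Coh.IsQCoh F] [QuasiCompact gY] [QuasiSeparated gY]

/-- A global section pulled back to `p ⁻¹ U`. -/
noncomputable abbrev qb (U : X.Opens) (t : Γ(F, gY ⁻¹ᵁ ⊤)) :
    Γ((Scheme.Modules.pullback q).obj F, p ⁻¹ᵁ U) :=
  resM ((Scheme.Modules.pullback q).obj F) (show p ⁻¹ᵁ U ≤ q ⁻¹ᵁ (gY ⁻¹ᵁ ⊤) from fun _ _ => trivial) (pullSec q t)

include h in
/-- Sections over `p ⁻¹ U` in terms of global sections of `F`. -/
theorem exists_family :
    ∃ (ι : Type u) (b : ι → Γ(F, gY ⁻¹ᵁ ⊤)), ∀ U : X.Opens, IsAffineOpen U →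
      (∀ m : Γ((Scheme.Modules.pullback q).obj F, p ⁻¹ᵁ U), ∃ (S : Finset ι) (c : ι → Γ(X, U)),
        m = ∑ i ∈ S, p.app U (c i) • qb F (p := p) (q := q) U (b i)) ∧
      ∀ (S : Finset ι) (c : ι → Γ(X, U)),
        ∑ i ∈ S, p.app U (c i) • qb F (p := p) (q := q) U (b i) = 0 → ∀ i ∈ S, c i = 0 := by
  classical
  haveI : Flat gX := inferInstance
  haveI : Coh.IsQCoh ((Scheme.Modules.pushforward gY).obj F) := Coherent.isQCoh_push gY F
  have hR : IsField Γ(Spec (CommRingCat.of k), ⊤) :=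
    MulEquiv.isField (Field.toIsField k) (Scheme.ΓSpecIso (CommRingCat.of k)).commRingCatIsoToRingEquiv.toMulEquiv
  letI := hR.toField
  let N := (Scheme.Modules.pushforward gY).obj F
  let B := Module.Free.chooseBasis Γ(Spec (CommRingCat.of k), ⊤) Γ(N, ⊤)
  refine ⟨_, fun i => (show Γ(F, gY ⁻¹ᵁ ⊤) from B i), fun U hU => ?_⟩
  have le : U ≤ gX ⁻¹ᵁ (⊤ : (Spec (CommRingCat.of k)).Opens) := fun _ _ => trivial
  letI := (gX.appLE ⊤ U le).hom.toAlgebra
  letI := Module.compHom Γ((Scheme.Modules.pullback gX).obj N, U) (gX.appLE ⊤ U le).hom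
  haveI : IsScalarTower Γ(Spec (CommRingCat.of k), ⊤) Γ(X, U) Γ((Scheme.Modules.pullback gX).obj N, U) :=
    IsScalarTower.of_algebraMap_smul fun _ _ => rfl
  obtain ⟨μ, hμ, hμe⟩ := EGA43.InjFibre.pullMap_isBaseChange gX (isAffineOpen_top _) hU le N
  let B' := (Algebra.TensorProduct.basis Γ(X, U) B).map hμ.equiv
  have hB' : ∀ i, B' i = μ (B i) := fun i => by
    rw [Module.Basis.map_apply, Algebra.TensorProduct.basis_apply, IsBaseChange.equiv_tmul, one_smul]
  let Θ := (CohBC.bc0 gY gX p q h.w F).app U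
  have hΘ : Function.Bijective Θ := CohExch.bijective_bc0_app_of_flat h F (isAffineOpen_top _) hU le
  have hΘb : ∀ (i : _) (c : Γ(X, U)), Θ (c • B' i) =
      p.app U c • qb F (p := p) (q := q) U (show Γ(F, gY ⁻¹ᵁ ⊤) from B i) := by
    intro i c
    rw [hB', hμe, pullMap_eq_resM_pullSec gX (isAffineOpen_top _) hU le N]
    refine (Scheme.Modules.Hom.app_smul (CohBC.bc0 gY gX p q h.w F) c _).trans ?_
    refine congrArg (fun z : Γ((Scheme.Modules.pullback q).obj F, p ⁻¹ᵁ U) => p.app U c • z) ?_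
    refine (app_resM (CohBC.bc0 gY gX p q h.w F) le _).trans ?_
    refine (congrArg (resM _ le) (CohExch.bc0_pullSec h.w F ⊤ (show Γ(F, gY ⁻¹ᵁ ⊤) from B i))).trans ?_
    exact resM_resM ((Scheme.Modules.pullback q).obj F) _ (p.preimage_mono le) _
  have hsum : ∀ (S : Finset _) (c : _ → Γ(X, U)),
      Θ (∑ i ∈ S, c i • B' i) = ∑ i ∈ S, p.app U (c i) • qb F (p := p) (q := q) U (show Γ(F, gY ⁻¹ᵁ ⊤) from B i) :=
    fun S c => (map_sum Θ.hom _ _).trans (Finset.sum_congr rfl fun i _ => hΘb i (c i))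
  refine ⟨fun m => ?_, fun S c h0 => ?_⟩
  · obtain ⟨z, rfl⟩ := hΘ.2 m
    refine ⟨(B'.repr z).support, fun i => B'.repr z i, ?_⟩
    rw [← hsum]
    exact congrArg Θ (B'.linearCombination_repr z).symm
  · exact linearIndependent_iff'.1 B'.linearIndependent S c (hΘ.1 ((hsum S c).trans (h0.trans (map_zero Θ.hom).symm)))

variable (E : X.Modules)

/-- `∑ p^* s_i ⊗ q^* t_i`. -/
noncomputable def ev {ι : Type u} (b : ι → Γ(F, gY ⁻¹ᵁ ⊤)) (S : Finset ι) (U : X.Opens) (s : ι → Γ(E, U)) :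
    Γ(CohB1.tensorMod ((Scheme.Modules.pullback p).obj E) ((Scheme.Modules.pullback q).obj F), p ⁻¹ᵁ U) :=
  ∑ i ∈ S, tmul (pullSec p (s i)) (qb F (p := p) (q := q) U (b i))

theorem resM_ev {ι : Type u} (b : ι → Γ(F, gY ⁻¹ᵁ ⊤)) (S : Finset ι) {U V : X.Opens} (hle : V ≤ U)
    (s : ι → Γ(E, U)) :
    resM _ (p.preimage_mono hle) (ev (p := p) (q := q) F E b S U s) =
      ev (p := p) (q := q) F E b S V (fun i => resM E hle (s i)) := by
  rw [ev, ev, map_sum]
  refine Finset.sum_congr rfl fun i _ => (resM_tmul _ _ _).trans ?_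
  rw [← resM_pullSec p hle (s i)]
  exact congrArg (tmul _) (resM_resM _ _ _ _)

theorem ev_sub {ι : Type u} (b : ι → Γ(F, gY ⁻¹ᵁ ⊤)) (S : Finset ι) (U : X.Opens) (s s' : ι → Γ(E, U)) :
    ev (p := p) (q := q) F E b S U (fun i => s i - s' i) + ev (p := p) (q := q) F E b S U s' =
      ev (p := p) (q := q) F E b S U s := by
  rw [ev, ev, ev, ← Finset.sum_add_distrib]
  refine Finset.sum_congr rfl fun i _ => ?_
  rw [← tmul_add_left]
  refine congrArg (fun z => tmul z _) ?_
  exact ((pullSec_add p (s i - s' i) (s' i)).symm.trans (congrArg _ (sub_add_cancel _ _)))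
where
  pullSec_add {U : X.Opens} (σ : W ⟶ X) (a a' : Γ(E, U)) : pullSec σ (a + a') = pullSec σ a + pullSec σ a' :=
    map_add (((Scheme.Modules.pullbackPushforwardAdjunction σ).unit.app E).app U).hom a a'

theorem sum_tmul_right {L M : W.Modules} {V : W.Opens} {ι : Type u} (s : Finset ι) (a : Γ(L, V))
    (b : ι → Γ(M, V)) : tmul a (∑ i ∈ s, b i) = ∑ i ∈ s, tmul a (b i) := by
  classical
  induction s using Finset.cons_induction with
  | empty => simp [Coherent.tmul_zero_right]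
  | cons j s hj ih => rw [Finset.sum_cons, Finset.sum_cons, tmul_add_right, ih]

theorem pullSec_zero {U : X.Opens} : pullSec p (0 : Γ(E, U)) = 0 :=
  map_zero (((Scheme.Modules.pullbackPushforwardAdjunction p).unit.app E).app U).hom

variable (hE : FlatMod.IsFinLocFree E)

include h hE in
/-- Global sections of `p^* E ⊗ q^* F` are sums of products. -/
theorem exists_sum_tmul [CompactSpace X]
    (σ : Γ(CohB1.tensorMod ((Scheme.Modules.pullback p).obj E) ((Scheme.Modules.pullback q).obj F), p ⁻¹ᵁ ⊤)) :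
    ∃ (ι : Type u) (S : Finset ι) (s : ι → Γ(E, ⊤)) (t : ι → Γ(F, gY ⁻¹ᵁ ⊤)),
      σ = ∑ i ∈ S, tmul (pullSec p (s i)) (qb F (p := p) (q := q) ⊤ (t i)) := by
  classical
  obtain ⟨ι, b, hb⟩ := exists_family h F
  let E' := (Scheme.Modules.pullback p).obj E
  let F' := (Scheme.Modules.pullback q).obj F
  let M := CohB1.tensorMod E' F'
  -- affine opens with a basis
  have hnb : ∀ (O : X.Opens) (x : X), x ∈ O → ∃ U : X.Opens, IsAffineOpen U ∧ x ∈ U ∧ U ≤ O ∧
      ∃ (n : ℕ) (e : ULift.{u} (Fin n) → Γ(E, U)), IsBasisOn E U e := by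
    intro O x hx
    obtain ⟨U₀, n, e, hxU, he⟩ := exists_isBasisOn hE x
    obtain ⟨U, hU, hxU', hle⟩ := exists_isAffineOpen_mem_and_subset (x := x) (U := U₀ ⊓ O) ⟨hxU, hx⟩
    refine ⟨U, hU, hxU', fun z hz => (hle hz).2, n, fun i => resM E (fun z hz => (hle hz).1) (e i), fun V hV => ?_⟩
    have := he (hV.trans (fun z hz => (hle hz).1 : U ≤ U₀))
    simpa only [resM_resM] using this
  have expand : ∀ {U : X.Opens} {n : ℕ} (e : ULift.{u} (Fin n) → Γ(E, U)) (S : Finset ι)
      (c : ι → ULift.{u} (Fin n) → Γ(X, U)),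
      ev (p := p) (q := q) F E b S U (fun i => ∑ a, c i a • e a) =
        ∑ a, tmul (resM E' le_rfl (pullSec p (e a)))
          (∑ i ∈ S, p.app U (c i a) • qb F (p := p) (q := q) U (b i)) := by
    intro U n e S c
    have hl : ∀ (i : ι), tmul (pullSec p (∑ a, c i a • e a)) (qb F (p := p) (q := q) U (b i)) =
        ∑ a, tmul (resM E' le_rfl (pullSec p (e a))) (p.app U (c i a) • qb F (p := p) (q := q) U (b i)) := by
      intro i
      rw [FlatMor12.FreeCharts.pullSec_sum, Coherent.sum_tmul_left]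
      refine Finset.sum_congr rfl fun a _ => ?_
      rw [pullSec_smul, tmul_smul_left, ← tmul_smul_right, resM_self]
    rw [ev, Finset.sum_congr rfl fun i _ => hl i, Finset.sum_comm]
    exact Finset.sum_congr rfl fun a _ => (sum_tmul_right _ _ _).symm
  have inj : ∀ {U : X.Opens}, IsAffineOpen U → ∀ {n : ℕ} {e : ULift.{u} (Fin n) → Γ(E, U)}, IsBasisOn E U e →
      ∀ (S : Finset ι) (s : ι → Γ(E, U)), ev (p := p) (q := q) F E b S U s = 0 → ∀ i ∈ S, s i = 0 := by
    intro U hU n e he S s h0 i hi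
    have hs : s = fun i => ∑ a, he.coef le_rfl (s i) a • e a := funext fun i => by
      conv_lhs => rw [← he.coef_spec le_rfl (s i)]
      simp only [resM_self]
    rw [hs, expand e S] at h0
    have h1 := (bijective_sum_tmul (he.pull p) F' (p ⁻¹ᵁ U) le_rfl).1
      (a₁ := fun a => ∑ i ∈ S, p.app U (he.coef le_rfl (s i) a) • qb F (p := p) (q := q) U (b i)) (a₂ := 0)
      (h0.trans (by simp [tmul_zero_right]))
    rw [hs]
    exact Finset.sum_eq_zero fun a _ => by rw [(hb U hU).2 S _ (congrFun h1 a) i hi, zero_smul]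
  -- local existence
  choose U hU hxU _ n e he using fun x : X => hnb ⊤ x trivial
  have hex : ∀ x : X, ∃ (S : Finset ι) (s : ι → Γ(E, U x)), (∀ i, i ∉ S → s i = 0) ∧
      resM M (p.preimage_mono le_top) σ = ev (p := p) (q := q) F E b S (U x) s := by
    intro x
    obtain ⟨m, hm⟩ := (bijective_sum_tmul ((he x).pull p) F' (p ⁻¹ᵁ U x) le_rfl).2
      (resM M (p.preimage_mono le_top) σ)
    choose S c hc using fun a => (hb (U x) (hU x)).1 (m a)
    let T : Finset ι := Finset.univ.biUnion S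
    let c' : ι → ULift.{u} (Fin (n x)) → Γ(X, U x) := fun i a => if i ∈ S a then c a i else 0
    refine ⟨T, fun i => ∑ a, c' i a • e x a, fun i hi => Finset.sum_eq_zero fun a _ => ?_, ?_⟩
    · rw [show c' i a = 0 from if_neg fun ha => hi (Finset.mem_biUnion.2 ⟨a, Finset.mem_univ a, ha⟩), zero_smul]
    · rw [expand (e x) T c', ← hm]
      refine Finset.sum_congr rfl fun a _ => congrArg (tmul _) ((hc a).trans ?_)
      refine (Finset.sum_congr rfl fun i hi => ?_).trans
        (Finset.sum_subset (fun i hi => Finset.mem_biUnion.2 ⟨a, Finset.mem_univ a, hi⟩) fun i _ hi => ?_)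
      · rw [show c' i a = c a i from if_pos hi]
      · rw [show c' i a = 0 from if_neg hi, map_zero, zero_smul]
  choose S s hs0 hs using hex
  obtain ⟨xs, hxs⟩ := CompactSpace.elim_nhds_subcover (fun x : X => (U x : Set X))
    fun x => (U x).isOpen.mem_nhds (hxU x)
  let T : Finset ι := xs.biUnion S
  let V : {x : X // x ∈ xs} → X.Opens := fun x => U x.1
  have hT : ∀ x : {x : X // x ∈ xs}, ev (p := p) (q := q) F E b T (V x) (s x.1) = resM M (p.preimage_mono le_top) σ := by
    intro x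
    rw [hs x.1]
    refine (Finset.sum_subset (fun i hi => Finset.mem_biUnion.2 ⟨x.1, x.2, hi⟩) fun i _ hi => ?_).symm
    rw [hs0 x.1 i hi]
    rw [pullSec_zero, tmul_zero_left]
  have hcov : (⊤ : X.Opens) ≤ iSup V := fun z _ => by
    obtain ⟨x, hx, hzx⟩ := Set.mem_iUnion₂.1 (hxs.ge (Set.mem_univ z) : z ∈ ⋃ x ∈ xs, (U x : Set X))
    exact Opens.mem_iSup.2 ⟨⟨x, hx⟩, hzx⟩
  let ES : TopCat.Sheaf Ab X := ⟨E.presheaf, E.isSheaf⟩
  have hglue : ∀ i : ι, ∃ g : Γ(E, ⊤), i ∈ T → ∀ x : {x : X // x ∈ xs}, resM E (le_top : V x ≤ ⊤) g = s x.1 i := by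
    intro i
    by_cases hi : i ∈ T
    swap; · exact ⟨0, fun h => absurd h hi⟩
    have hcomp : TopCat.Presheaf.IsCompatible ES.presheaf V (fun (x : {x : X // x ∈ xs}) => (s x.1 i : Γ(E, V x))) := by
      intro x y
      refine TopCat.Presheaf.section_ext ES _ _ _ fun z hz => ?_
      obtain ⟨O, hO, hzO, hOle, m, eO, heO⟩ := hnb (V x ⊓ V y) z hz
      have hd := inj hO heO T (fun i => resM E (hOle.trans inf_le_left) (s x.1 i) -
        resM E (hOle.trans inf_le_right) (s y.1 i)) (by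
          have h := ev_sub (p := p) (q := q) F E b T O (fun i => resM E (hOle.trans inf_le_left) (s x.1 i))
            (fun i => resM E (hOle.trans inf_le_right) (s y.1 i))
          rw [← resM_ev F E b T (hOle.trans inf_le_left), ← resM_ev F E b T (hOle.trans inf_le_right), hT, hT,
            resM_resM, resM_resM] at h
          exact add_eq_right.1 h) i hi
      have hz' := sub_eq_zero.1 hd
      have h1 := TopCat.Presheaf.germ_res_apply ES.presheaf (homOfLE (hOle.trans inf_le_left : O ≤ V x)) z hzO (s x.1 i)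
      have h2 := TopCat.Presheaf.germ_res_apply ES.presheaf (homOfLE (hOle.trans inf_le_right : O ≤ V y)) z hzO (s y.1 i)
      refine (TopCat.Presheaf.germ_res_apply ES.presheaf (Opens.infLELeft (V x) (V y)) z hz (s x.1 i)).trans ?_
      refine Eq.trans ?_ (TopCat.Presheaf.germ_res_apply ES.presheaf (Opens.infLERight (V x) (V y)) z hz (s y.1 i)).symm
      exact h1.symm.trans ((congrArg (ES.presheaf.germ O z hzO) hz').trans h2)
    obtain ⟨g, hg, -⟩ := TopCat.Sheaf.existsUnique_gluing' ES V ⊤ (fun _ => homOfLE le_top) hcov _ hcomp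
    exact ⟨g, fun _ x => hg x⟩
  choose g hg using hglue
  refine ⟨ι, T, g, b, ?_⟩
  let MS : TopCat.Sheaf Ab W := ⟨M.presheaf, M.isSheaf⟩
  refine TopCat.Sheaf.eq_of_locally_eq' MS (fun x : {x : X // x ∈ xs} => p ⁻¹ᵁ V x) (p ⁻¹ᵁ ⊤)
    (fun _ => homOfLE (p.preimage_mono le_top)) (fun z hz => ?_) _ _ fun x => ?_
  · obtain ⟨x, hx⟩ := Opens.mem_iSup.1 (hcov (trivial : p.base z ∈ (⊤ : X.Opens)))
    exact Opens.mem_iSup.2 ⟨x, hx⟩
  · show resM M (p.preimage_mono le_top) σ = resM M (p.preimage_mono le_top) (ev (p := p) (q := q) F E b T ⊤ g)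
    rw [resM_ev F E b T le_top g, ← hT x]
    exact Finset.sum_congr rfl fun i hi => by simp only [hg i hi x]

end Groth.Agent.MulSpan27
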