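import Groth.Agent.MulSpan27.Kunneth
import Groth.Agent.AbCohLib.Local
import Groth.Agent.Coherent.CohBC.SectionSpread
import Groth.Agent.Coherent.CohBC.FibreInvariance
import Groth.Agent.Coherent.CohBC.HomSheaf
import Groth.Agent.Coherent.CohBC.Fibre
import Groth.Agent.DCat.PullTensor
import Groth.Agent.SerreDual.LocFreeCriterion
import Groth.Agent.FlatMorAdm.LocFreeApps
import Groth.Agent.WeilFin.Bundle
import Groth.Agent.AbVarLib.GeomIntegralSmooth
import Groth.Agent.Coherent.TensorQcoh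
import Groth.Agent.FlatMorStrat.Supported
import Mathlib.AlgebraicGeometry.Group.Abelian

/-!
# Surjectivity of multiplication of sections after a translation
-/

set_option autoImplicit false
set_option linter.style.haveILetI false
set_option linter.unusedSectionVars false
set_option backward.isDefEq.respectTransparency.types false
set_option maxHeartbeats 1600000

universe u

open CategoryTheory CategoryTheory.Limits MonoidalCategory CartesianMonoidalCategory MonObj AlgebraicGeometry Opposite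
open Groth.Agent.Coherent Groth.Agent.PicLib Groth.Agent.AmpleLib

namespace Groth.Agent.MulSpan27

/-- Inverse image of sections along an isomorphism is surjective. -/
theorem surjective_pullSec_of_isIso {Z Y : Scheme.{u}} (e : Z ⟶ Y) [IsIso e] (N : Y.Modules)
    (b : Γ((Scheme.Modules.pullback e).obj N, e ⁻¹ᵁ ⊤)) : ∃ m : Γ(N, ⊤), pullSec e m = b := by
  let E := (Scheme.Modules.restrictFunctorIsoPullback e).app N
  have hunit : ∀ m : Γ(N, ⊤), E.hom.app (e ⁻¹ᵁ ⊤) (resM N (e.image_preimage_le ⊤) m) = pullSec e m :=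
    fun m => ConcreteCategory.congr_hom (congrArg (fun ψ => Scheme.Modules.Hom.app ψ ⊤)
      (Adjunction.unit_leftAdjointUniq_hom_app (Scheme.Modules.restrictAdjunction e)
        (Scheme.Modules.pullbackPushforwardAdjunction e) N)) m
  have hle : (⊤ : Y.Opens) ≤ e ''ᵁ (e ⁻¹ᵁ ⊤) := fun y _ => by
    obtain ⟨z, hz⟩ := (asIso e).hom.surjective y
    exact ⟨z, trivial, hz⟩
  refine ⟨resM N hle (E.inv.app (e ⁻¹ᵁ ⊤) b), ?_⟩
  rw [← hunit, resM_resM, resM_self]
  exact ConcreteCategory.congr_hom (congrArg (fun ψ => Scheme.Modules.Hom.app ψ (e ⁻¹ᵁ ⊤)) E.inv_hom_id) b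

/-- A predicate stable under sums and multiplication by functions which holds on the pullbacks of global
sections holds on all sections of a fibre. -/
theorem forall_fibre_of_globallyGenerated {W S Z : Scheme.{u}} (f : W ⟶ S) [IsProper f] [Flat f]
    [IsLocallyNoetherian S] [HasInjectiveResolutions W.Modules] (M : W.Modules) (hM : Coh.IsCoh M)
    (hfl : FlatMod.IsFlatOver f M) (hgg : Curv2.IsGloballyGenerated ((Scheme.Modules.pushforward f).obj M))
    (y : S) (h1 : CohIII.fiberRank f M 1 y = 0) (g : Z ⟶ W) (e : Z ⟶ f.fiber y) [IsIso e]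
    (he : e ≫ f.fiberι y = g) (P : Γ((Scheme.Modules.pullback g).obj M, g ⁻¹ᵁ ⊤) → Prop)
    (h0 : P 0) (hadd : ∀ a b, P a → P b → P (a + b))
    (hsmul : ∀ (r : Γ(Z, g ⁻¹ᵁ ⊤)) a, P a → P (r • a))
    (hs : ∀ s : Γ(M, ⊤), P (pullSec g s)) (τ : Γ((Scheme.Modules.pullback g).obj M, g ⁻¹ᵁ ⊤)) : P τ := by
  classical
  let G := (Scheme.Modules.pushforward f).obj M
  have hy : ∀ z : Z, f.base (g.base z) = y := fun z => by
    rw [← he]
    exact (f.range_fiberι y).le ⟨e.base z, rfl⟩
  have htop : ∀ {V : S.Opens}, y ∈ V → g ⁻¹ᵁ ⊤ ≤ g ⁻¹ᵁ (f ⁻¹ᵁ V) := fun {V} hV z _ => by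
    show f.base (g.base z) ∈ V
    rw [hy z]; exact hV
  let img : ∀ (V : S.Opens), y ∈ V → Γ(G, V) → Γ((Scheme.Modules.pullback g).obj M, g ⁻¹ᵁ ⊤) := fun V hV w =>
    resM _ (htop hV) (pullSec g (show Γ(M, f ⁻¹ᵁ V) from w))
  have himg : ∀ {V V' : S.Opens} (h : V' ≤ V) (hV' : y ∈ V') (w : Γ(G, V)),
      img V' hV' (resM G h w) = img V (h hV') w := by
    intro V V' h hV' w
    show resM _ _ (pullSec g (resM M (f.preimage_mono h) w)) = resM _ _ (pullSec g _)
    rw [← resM_pullSec g (f.preimage_mono h)]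
    exact resM_resM _ _ _ _
  let Q : G.presheaf.stalk y → Prop := fun z =>
    ∃ (V : S.Opens) (hV : y ∈ V) (w : Γ(G, V)), G.presheaf.germ V y hV w = z ∧ P (img V hV w)
  have hQ : ∀ z, Q z := by
    intro z
    have hmem : z ∈ Submodule.span (S.presheaf.stalk y)
        (Set.range fun s : Γ(G, ⊤) => (G.presheaf.germ ⊤ y trivial s : G.presheaf.stalk y)) := by
      rw [SerreDual.span_germ_top_eq_top hgg y]; trivial
    induction hmem using Submodule.span_induction with
    | mem z hz =>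
      obtain ⟨s, rfl⟩ := hz
      refine ⟨⊤, trivial, s, rfl, ?_⟩
      have hid : img ⊤ trivial s = pullSec g (show Γ(M, ⊤) from s) := resM_self _ _ _
      rw [hid]; exact hs _
    | zero =>
      refine ⟨⊤, trivial, 0, map_zero _, ?_⟩
      have : img ⊤ trivial 0 = 0 := by
        show resM _ _ (pullSec g (0 : Γ(M, f ⁻¹ᵁ ⊤))) = 0
        exact (congrArg _ (map_zero (((Scheme.Modules.pullbackPushforwardAdjunction g).unit.app M).app (f ⁻¹ᵁ ⊤)).hom)).trans
          (map_zero _)
      rw [this]; exact h0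
    | add a b _ _ ha hb =>
      obtain ⟨V, hV, w, rfl, hw⟩ := ha
      obtain ⟨V', hV', w', rfl, hw'⟩ := hb
      refine ⟨V ⊓ V', ⟨hV, hV'⟩, resM G inf_le_left w + resM G inf_le_right w', ?_, ?_⟩
      · rw [map_add, SerreDual.germ_resM, SerreDual.germ_resM]
      · have : img (V ⊓ V') ⟨hV, hV'⟩ (resM G inf_le_left w + resM G inf_le_right w') =
            img V hV w + img V' hV' w' := by
          rw [← himg (inf_le_left : V ⊓ V' ≤ V) ⟨hV, hV'⟩ w, ← himg (inf_le_right : V ⊓ V' ≤ V') ⟨hV, hV'⟩ w']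
          exact (congrArg (resM _ (htop (⟨hV, hV'⟩ : y ∈ V ⊓ V')))
            (map_add (((Scheme.Modules.pullbackPushforwardAdjunction g).unit.app M).app (f ⁻¹ᵁ (V ⊓ V'))).hom _ _)).trans
            (map_add (resM ((Scheme.Modules.pullback g).obj M) (htop (⟨hV, hV'⟩ : y ∈ V ⊓ V'))) _ _)
        rw [this]; exact hadd _ _ hw hw'
    | smul r a _ ha =>
      obtain ⟨V, hV, w, rfl, hw⟩ := ha
      obtain ⟨V', hV', r, rfl⟩ := S.presheaf.exists_germ_eq r
      let r' : Γ(S, V' ⊓ V) := S.presheaf.map (homOfLE inf_le_left).op r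
      refine ⟨V' ⊓ V, ⟨hV', hV⟩, r' • resM G inf_le_right w, ?_, ?_⟩
      · rw [QCohLoc.germ_smul', SerreDual.germ_resM]
        exact congrArg (fun c : S.presheaf.stalk y => c • _) (TopCat.Presheaf.germ_res_apply S.presheaf _ y _ r)
      · obtain ⟨c, hc⟩ : ∃ c : Γ(Z, g ⁻¹ᵁ ⊤), img (V' ⊓ V) ⟨hV', hV⟩ (r' • resM G inf_le_right w) =
            c • img (V' ⊓ V) ⟨hV', hV⟩ (resM G inf_le_right w) := by
          refine ⟨_, (congrArg (resM _ (htop (⟨hV', hV⟩ : y ∈ V' ⊓ V)))
            (pullSec_smul g (f.app (V' ⊓ V) r') (show Γ(M, f ⁻¹ᵁ (V' ⊓ V)) from resM G inf_le_right w))).trans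
              (resM_smul _ _ _ _)⟩
        rw [hc, himg inf_le_right ⟨hV', hV⟩ w]
        exact hsmul c _ hw
  -- sections of the fibre
  obtain ⟨c, hc⟩ := RelVALib.exists_compIso e (f.fiberι y) g he M
  obtain ⟨σ, hσ⟩ := surjective_pullSec_of_isIso e (CohIII.fiberMod f M y) (c.hom.app (g ⁻¹ᵁ ⊤) τ)
  obtain ⟨U, hyU, t, ht⟩ := CohBC.exists_section_extending f M hM hfl y h1 σ
  have key : τ = img U hyU t := by
    refine app_injective_of_mono c.hom (g ⁻¹ᵁ ⊤) (hσ.symm.trans ?_)
    have hle : g ⁻¹ᵁ (f ⁻¹ᵁ U) ≤ e ⁻¹ᵁ (f.fiberι y ⁻¹ᵁ (f ⁻¹ᵁ U)) := by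
      subst he; exact le_rfl
    rw [app_resM, hc (f ⁻¹ᵁ U) t hle, ht, ← resM_pullSec e le_top σ]
    simp only [resM_resM]
    exact (resM_self _ _ _).symm
  obtain ⟨V, hV, w, hgerm, hw⟩ := hQ (G.presheaf.germ U y hyU t)
  obtain ⟨O, hyO, iV, iU, hO⟩ := G.presheaf.germ_eq (U := V) (V := U) y hV hyU w t hgerm
  rw [key, ← himg (leOfHom iU) hyO t]
  have : img V hV w = img O hyO (resM G (leOfHom iU) t) :=
    (himg (leOfHom iV) hyO w).symm.trans (congrArg (img O hyO) hO)
  rwa [← this]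

/-- Pullback of a tensor of sections, through a comparison iso. -/
theorem app_pullTensor_comp {Z W : Scheme.{u}} (g : Z ⟶ W) (P₁ P₂ : W.Modules) {Q₁ Q₂ : Z.Modules}
    (α : (Scheme.Modules.pullback g).obj P₁ ≅ Q₁) (β : (Scheme.Modules.pullback g).obj P₂ ≅ Q₂) (U : W.Opens)
    (a : Γ(P₁, U)) (b : Γ(P₂, U)) :
    (DCat.PullTensor.pullTensorIso g P₁ P₂ ≪≫ AmpleLib.tensorIso α β).hom.app (g ⁻¹ᵁ U)
        (pullSec g (show Γ(CohB1.tensorMod P₁ P₂, U) from tmul a b)) =
      tmul (α.hom.app (g ⁻¹ᵁ U) (pullSec g a)) (β.hom.app (g ⁻¹ᵁ U) (pullSec g b)) := by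
  show (AmpleLib.tensorIso α β).hom.app (g ⁻¹ᵁ U) ((DCat.PullTensor.pullTensorHom g P₁ P₂).app (g ⁻¹ᵁ U) _) = _
  erw [DCat.PullTensor.pullTensorHom_pullSec]
  exact tensorMap_tmul α.hom β.hom _ _

section AV

variable {k : Type u} [Field k] {A : Over (Spec (CommRingCat.of k))} [GrpObj A]

/-- `(μ, snd)` is a product diagram. -/
theorem isPullback_snd_mul : IsPullback (snd A A).left μ[A].left A.hom A.hom := by
  let i : A ⊗ A ≅ A ⊗ A :=
    { hom := lift (fst A A * (snd A A)⁻¹) (snd A A)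
      inv := lift μ[A] (snd A A)
      hom_inv_id := by
        apply CartesianMonoidalCategory.hom_ext
        · rw [Category.assoc, lift_fst, Category.id_comp]
          show (fst A A * (snd A A)⁻¹) * snd A A = _
          exact inv_mul_cancel_right _ _
        · rw [Category.assoc, lift_snd, Category.id_comp, lift_snd]
      inv_hom_id := by
        apply CartesianMonoidalCategory.hom_ext
        · rw [Category.assoc, lift_fst, Category.id_comp, comp_mul, GrpObj.comp_inv, lift_fst, lift_snd,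
            mul_inv_eq_iff_eq_mul, Hom.mul_def, lift_fst_snd, Category.id_comp]
        · rw [Category.assoc, lift_snd, Category.id_comp, lift_snd] }
  have h1 : i.hom ≫ μ[A] = fst A A := by
    show (fst A A * (snd A A)⁻¹) * snd A A = _
    exact inv_mul_cancel_right _ _
  refine (IsPullback.of_hasPullback A.hom A.hom).flip.of_iso ((Over.forget _).mapIso i) (Iso.refl _) (Iso.refl _)
    (Iso.refl _) ?_ ?_ (by simp) (by simp)
  · show (snd A A).left ≫ 𝟙 _ = i.hom.left ≫ (snd A A).left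
    rw [Category.comp_id, ← Over.comp_left]
    exact (congrArg CommaMorphism.left (lift_snd _ _)).symm
  · show (fst A A).left ≫ 𝟙 _ = i.hom.left ≫ μ[A].left
    rw [Category.comp_id, ← Over.comp_left, h1]

variable [IsAlgClosed k] [IsProper A.hom] [Smooth A.hom] [GeometricallyConnected A.hom]

/-- Multiplication of sections after a translation. -/
theorem surjective_mulSections (E F : A.left.Modules) (hE : FlatMod.IsFinLocFree E) (hF : FlatMod.IsFinLocFree F)
    (hgg : Curv2.IsGloballyGenerated ((Scheme.Modules.pushforward (fst A A).left).obj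
      (CohB1.tensorMod ((Scheme.Modules.pullback μ[A].left).obj E)
        ((Scheme.Modules.pullback (snd A A).left).obj F))))
    (x : 𝟙_ (Over (Spec (CommRingCat.of k))) ⟶ A)
    (hvan : Subsingleton (Coh.HH A.left
        (CohB1.tensorMod ((Scheme.Modules.pullback (𝟙 A * (toUnit A ≫ x)).left).obj E) F) 1)) :
    Function.Surjective ((toSheafify (Opens.grothendieckTopology A.left)
      (CohB1.tensorPre ((Scheme.Modules.pullback (𝟙 A * (toUnit A ≫ x)).left).obj E) F).presheaf).app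
        (Opposite.op ⊤)) := by
  haveI : QuasiCompact A.hom := inferInstance
  haveI : GeometricallyIntegral A.hom := AbVarLib.geometricallyIntegral_of_smooth A.hom
  haveI : IsCommMonObj A := isCommMonObj_of_isProper_of_geometricallyIntegral A
  haveI : IsLocallyNoetherian A.left := LocallyOfFiniteType.isLocallyNoetherian A.hom
  haveI : CompactSpace A.left := QuasiCompact.compactSpace_of_compactSpace A.hom
  haveI : QuasiSeparatedSpace A.left := quasiSeparatedSpace_of_quasiSeparated A.hom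
  let f := (fst A A).left
  haveI : IsProper f := MorphismProperty.pullback_fst (P := @IsProper) A.hom A.hom inferInstance
  haveI : Flat f := MorphismProperty.pullback_fst (P := @Flat) A.hom A.hom inferInstance
  haveI : IsLocallyNoetherian (A ⊗ A).left := LocallyOfFiniteType.isLocallyNoetherian f
  haveI := hasInjectiveResolutions_modules (A ⊗ A).left
  let P₁ := (Scheme.Modules.pullback μ[A].left).obj E
  let P₂ := (Scheme.Modules.pullback (snd A A).left).obj F
  let M := CohB1.tensorMod P₁ P₂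
  have hMl : FlatMod.IsFinLocFree M :=
    WeilFin.isFinLocFree_tensorMod (FlatMorAdm.isFinLocFree_pullback _ hE) (FlatMorAdm.isFinLocFree_pullback _ hF)
  have hMc : Coh.IsCoh M := CohBC.isCoh_of_isFinLocFree hMl
  haveI : Coh.IsQCoh M := hMc.1
  let gg := lift (toUnit A ≫ x) (𝟙 A)
  let g := gg.left
  let pt : Spec (CommRingCat.of k) := IsLocalRing.closedPoint k
  let y : A.left := x.left pt
  have hsq : IsPullback g A.hom f x.left := AbCohLib.isPullback_slice x A
  have hμ : g ≫ μ[A].left = (𝟙 A * (toUnit A ≫ x)).left := by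
    rw [← Over.comp_left]
    exact congrArg CommaMorphism.left ((Hom.mul_def _ _).symm.trans (_root_.mul_comm _ _))
  have hsnd : g ≫ (snd A A).left = 𝟙 _ := by rw [← Over.comp_left, lift_snd]; rfl
  let t := (𝟙 A * (toUnit A ≫ x)).left
  let α : (Scheme.Modules.pullback g).obj P₁ ≅ (Scheme.Modules.pullback t).obj E :=
    (Scheme.Modules.pullbackComp g μ[A].left).app E ≪≫ (Scheme.Modules.pullbackCongr hμ).app E
  let β : (Scheme.Modules.pullback g).obj P₂ ≅ F :=
    (Scheme.Modules.pullbackComp g (snd A A).left).app F ≪≫ (Scheme.Modules.pullbackCongr hsnd).app F ≪≫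
      (Scheme.Modules.pullbackId A.left).app F
  let Ψ : (Scheme.Modules.pullback g).obj M ≅ CohB1.tensorMod ((Scheme.Modules.pullback t).obj E) F :=
    DCat.PullTensor.pullTensorIso g P₁ P₂ ≪≫ AmpleLib.tensorIso α β
  -- the fibre
  let φ := Scheme.descResidueField (Scheme.stalkClosedPointTo x.left)
  have hφ : Spec.map φ ≫ A.left.fromSpecResidueField y = x.left :=
    Scheme.descResidueField_stalkClosedPointTo_fromSpecResidueField k A.left x.left
  have hsec : x.left ≫ A.hom = 𝟙 _ := Over.w x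
  haveI : IsIso φ := by
    obtain ⟨ψ, hψ⟩ := Spec.map_surjective (A.left.fromSpecResidueField y ≫ A.hom)
    have h1 : ψ ≫ φ = 𝟙 _ := Spec.map_injective (by
      rw [Spec.map_comp, hψ, reassoc_of% hφ, hsec, Spec.map_id]; rfl)
    refine (ConcreteCategory.isIso_iff_bijective _).2 ⟨RingHom.injective φ.hom, fun c => ⟨ψ c, ?_⟩⟩
    exact ConcreteCategory.congr_hom h1 c
  have hH : IsPullback g (A.hom ≫ Spec.map φ) f (A.left.fromSpecResidueField y) :=
    hsq.of_iso (Iso.refl _) (Iso.refl _) (asIso (Spec.map φ)) (Iso.refl _) (by simp) (by simp) (by simp)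
      (by rw [asIso_hom, Iso.refl_hom, Category.comp_id, hφ])
  -- vanishing on the fibre
  have h1 : CohIII.fiberRank f M 1 y = 0 := by
    letI : A.left.Over (Spec (CommRingCat.of k)) := ⟨A.hom⟩
    haveI : QuasiCompact f := inferInstance
    haveI : Coh.IsQCoh ((Scheme.Modules.pullback g).obj M) := EGA43.InjFibre.isQCoh_pullback g M
    rw [show y = x.left pt from rfl, ← CohBC.fiberRank_pullback hsq M 1 pt]
    refine (CohBC.finrank_HH_bc k _ (CohBC.residueHom pt) A.hom (A.hom.fiberToSpecResidueField pt) (A.hom.fiberι pt)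
      (CohBC.PerfData.isPullback_fibre (X := A.left) pt) ((Scheme.Modules.pullback g).obj M) _ (Iso.refl _) 1).trans ?_
    haveI := hvan
    haveI : Subsingleton (Coh.HH A.left ((Scheme.Modules.pullback g).obj M) 1) :=
      FlatMorStrat.subsingleton_HH_of_iso Ψ.symm 1 hvan
    letI : Module k (Coh.HH A.left ((Scheme.Modules.pullback g).obj M) 1) := Module.compHom _ (Coh.toGlobal A.hom)
    exact Module.finrank_zero_of_subsingleton
  haveI : IsIso hH.isoPullback.hom := inferInstance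
  let T := (toSheafify (Opens.grothendieckTopology A.left)
      (CohB1.tensorPre ((Scheme.Modules.pullback t).obj E) F).presheaf).app (Opposite.op ⊤)
  have htmul : ∀ (a : Γ((Scheme.Modules.pullback t).obj E, ⊤)) (b : Γ(F, ⊤)), ∃ w, T w = tmul a b :=
    fun a b => ⟨_, rfl⟩
  intro z
  have hPall := forall_fibre_of_globallyGenerated f M hMc
    (CohBC.isFlatOver_of_isFinLocFree f hMl) hgg y h1 g hH.isoPullback.hom hH.isoPullback_hom_fst
    (fun τ => ∀ r : Γ(A.left, g ⁻¹ᵁ ⊤), ∃ w, T w = Ψ.hom.app (g ⁻¹ᵁ ⊤) (r • τ))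
    (fun r => ⟨0, by rw [smul_zero]; exact (map_zero T.hom).trans (map_zero (Ψ.hom.app (g ⁻¹ᵁ ⊤)).hom).symm⟩)
    (fun a b ha hb r => by
      obtain ⟨w, hw⟩ := ha r
      obtain ⟨w', hw'⟩ := hb r
      refine ⟨w + w', ?_⟩
      rw [smul_add]
      exact (map_add T.hom w w').trans ((congrArg₂ (· + ·) hw hw').trans (map_add (Ψ.hom.app (g ⁻¹ᵁ ⊤)).hom _ _).symm))
    (fun c a ha r => by rw [smul_smul]; exact ha (r * c))
    (fun s => ?_)
  · obtain ⟨w, hw⟩ := hPall (Ψ.inv.app ⊤ z) 1
    refine ⟨w, hw.trans ?_⟩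
    rw [one_smul]
    exact ConcreteCategory.congr_hom (congrArg (fun ψ => Scheme.Modules.Hom.app ψ ⊤) Ψ.inv_hom_id) z
  · haveI : Coh.IsQCoh F := CAlgH3.LocFreeFactor.isQCoh_of_finLocFree hF
    obtain ⟨J₀, S, a, b, hs⟩ := exists_sum_tmul (p := μ[A].left) (q := (snd A A).left)
      (isPullback_snd_mul (A := A)) F E hE s
    let el : J₀ → Γ(M, ⊤) := fun i => (show Γ(M, ⊤) from tmul (pullSec μ[A].left (a i)) (qb F (p := μ[A].left) (q := (snd A A).left) ⊤ (b i)))
    have hs' : s = ∑ i ∈ S, el i := hs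
    have hprod : ∀ i ∈ S, ∀ r : Γ(A.left, g ⁻¹ᵁ ⊤), ∃ w, T w = Ψ.hom.app (g ⁻¹ᵁ ⊤) (r •
        pullSec g (el i)) := by
      intro i _ r
      obtain ⟨w, hw⟩ := htmul (r • α.hom.app (g ⁻¹ᵁ ⊤) (pullSec g (pullSec μ[A].left (a i))))
        (β.hom.app (g ⁻¹ᵁ ⊤) (pullSec g (qb F (p := μ[A].left) (q := (snd A A).left) ⊤ (b i))))
      refine ⟨w, hw.trans ?_⟩
      rw [Scheme.Modules.Hom.app_smul]
      refine (tmul_smul_left r _ _).trans (congrArg (r • ·) ?_)
      exact (app_pullTensor_comp g P₁ P₂ α β ⊤ (pullSec μ[A].left (a i))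
        (qb F (p := μ[A].left) (q := (snd A A).left) ⊤ (b i))).symm
    rw [hs']
    intro r
    have hlin : Ψ.hom.app (g ⁻¹ᵁ ⊤) (r • pullSec g (∑ i ∈ S, el i)) =
        ∑ i ∈ S, Ψ.hom.app (g ⁻¹ᵁ ⊤) (r • pullSec g (el i)) := by
      erw [FlatMor12.FreeCharts.pullSec_sum]
      rw [Finset.smul_sum, map_sum]
    choose w hw using fun i : S => hprod i.1 i.2 r
    refine ⟨∑ i, w i, (map_sum T.hom _ _).trans ((Finset.sum_congr rfl fun i _ => hw i).trans ?_)⟩
    refine Eq.trans ?_ hlin.symm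
    exact Finset.sum_coe_sort S (fun i => Ψ.hom.app (g ⁻¹ᵁ ⊤) (r • pullSec g (el i)))

end AV

end Groth.Agent.MulSpan27
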